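import Cfsg.Agent.H860.JM.Geom
import Mathlib.GroupTheory.PGroup

/-!
# A4-subgroups and points: geometric reduction
-/

set_option autoImplicit false

namespace Cfsg.Agent.H761.JM

open Cfsg.Agent.H860.JM

variable {G : Type*} [Group G] {Γ : Geom G}

theorem cj_cj' (g h : G) (P : Subgroup G) : cj g (cj h P) = cj (g * h) P := by
  ext x
  constructor
  · rintro ⟨_, ⟨z, hz, rfl⟩, rfl⟩
    refine ⟨z, hz, ?_⟩
    show g * h * z * (g * h)⁻¹ = g * (h * z * h⁻¹) * g⁻¹
    group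
  · rintro ⟨z, hz, rfl⟩
    refine ⟨h * z * h⁻¹, ⟨z, hz, rfl⟩, ?_⟩
    show g * (h * z * h⁻¹) * g⁻¹ = g * h * z * (g * h)⁻¹
    group

theorem cj_one' (P : Subgroup G) : cj 1 P = P := by
  ext x
  constructor
  · rintro ⟨z, hz, rfl⟩
    have : (MulAut.conj (1 : G)).toMonoidHom z = z := by
      show 1 * z * (1 : G)⁻¹ = z
      group
    rw [this]; exact hz
  · intro h
    refine ⟨x, h, ?_⟩
    show 1 * x * (1 : G)⁻¹ = x
    group

theorem mem_cj_of {g x : G} {P : Subgroup G} (h : x ∈ P) : g * x * g⁻¹ ∈ cj g P := ⟨x, h, rfl⟩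

theorem mem_normalizer_of_cj {g : G} {P : Subgroup G} (h : cj g P = P) :
    g ∈ Subgroup.normalizer (P : Set G) := by
  rw [Subgroup.mem_normalizer_iff]
  intro x
  constructor
  · intro hx
    have := mem_cj_of (g := g) hx
    rwa [h] at this
  · intro hx
    rw [← h] at hx
    obtain ⟨z, hz, hzx⟩ := hx
    have h1 : g * z * g⁻¹ = g * x * g⁻¹ := hzx
    have h2 : z = x := mul_left_cancel (mul_right_cancel h1)
    exact h2 ▸ hz

/-- the relations of an A4-subgroup -/
structure A4 (v y : G) : Prop where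
  vne : v ≠ 1
  vsq : v * v = 1
  y3 : y * y * y = 1
  vy : v * y * (v * y) * (v * y) = 1

theorem A4.yne {v y : G} (h : A4 v y) : y ≠ 1 := by
  rintro rfl
  have h1 := h.vy
  rw [mul_one, h.vsq, one_mul] at h1
  exact h.vne h1

/-- the conjugates of `v` -/
theorem A4.facts {v y : G} (h : A4 v y) :
    y * (y * v * y⁻¹) * y⁻¹ = v * (y * v * y⁻¹) ∧ v * (y * v * y⁻¹) = (y * v * y⁻¹) * v ∧
    y * (v * (y * v * y⁻¹)) * y⁻¹ = v := by
  have hy3 := h.y3
  have hvy := h.vy
  have hv2 := h.vsq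
  have hyi : y⁻¹ = y * y := inv_eq_of_mul_eq_one_left hy3
  have e1 : v * (y * v * y⁻¹) * (y * (y * v * y⁻¹) * y⁻¹) = 1 := by
    have : v * (y * v * y⁻¹) * (y * (y * v * y⁻¹) * y⁻¹) =
        v * y * (v * y) * (v * y) * (y * y * y)⁻¹ := by group
    rw [this, hvy, hy3, one_mul, inv_one]
  have hvi : v⁻¹ = v := inv_eq_of_mul_eq_one_left hv2
  have hw : ∀ g : G, (g * v * g⁻¹)⁻¹ = g * v * g⁻¹ := fun g => by
    have : (g * v * g⁻¹)⁻¹ = g * v⁻¹ * g⁻¹ := by group
    rw [this, hvi]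
  set b := y * v * y⁻¹ with hb
  have hb' : b⁻¹ = b := hw y
  have hc : y * b * y⁻¹ = (v * b)⁻¹ := (inv_eq_of_mul_eq_one_right e1).symm
  have hc' : (y * b * y⁻¹)⁻¹ = y * b * y⁻¹ := by
    have : y * b * y⁻¹ = (y * y) * v * (y * y)⁻¹ := by rw [hb]; group
    rw [this]; exact hw _
  have h1 : v * b = y * b * y⁻¹ := by
    rw [← hc', hc, inv_inv]
  have h2 : v * b = b * v := by
    have h3 : (v * b)⁻¹ = v * b := by rw [← hc, h1]
    rw [← h3, mul_inv_rev, hb', hvi]
  refine ⟨h1.symm, h2, ?_⟩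
  rw [h1, hb]
  have : y * (y * (y * v * y⁻¹) * y⁻¹) * y⁻¹ = (y * y * y) * v * (y * y * y)⁻¹ := by group
  rw [this, hy3]; group

/-- **an A4-subgroup `⟨v, y⟩`**: `y` normalizes a point containing `v`, or `v` is of class 2B and
its conjugate is not in the point of `v`. -/
theorem geo_red (f1 : F1 Γ) (f4 : F4 Γ) (f5 : F5 Γ) (f6 : F6 Γ) (f7 : F7 Γ) {v y : G}
    (h : A4 v y) : (∃ P, Γ.Pt P ∧ v ∈ P ∧ y ∈ Subgroup.normalizer (P : Set G)) ∨
      (Γ.B v ∧ ∀ P, Γ.Pt P → v ∈ P → y * v * y⁻¹ ∉ P) := by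
  obtain ⟨e1, e2, e3⟩ := h.facts
  have hne : v ≠ y * v * y⁻¹ := by
    intro hv
    have h4 : v * (y * v * y⁻¹) = 1 := by rw [← hv]; exact h.vsq
    rw [h4] at e3
    exact h.vne (by rw [← e3]; group)
  have hbne : y * v * y⁻¹ ≠ 1 := fun h5 => h.vne (conj_eq_one_iff.1 h5)
  rcases f1.invol v h.vne h.vsq with hA | hB
  · left
    have hA2 : Γ.A (y * v * y⁻¹) := f1.A_conj _ _ hA
    have hA3 : Γ.A (v * (y * v * y⁻¹)) := by rw [← e1]; exact f1.A_conj _ _ hA2
    obtain ⟨P, hP, hvP, hbP⟩ := f7 v (y * v * y⁻¹) hA hA2 e2 hA3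
    -- the image of `P`
    have hyP : v ∈ cj y P ∧ y * v * y⁻¹ ∈ cj y P := by
      refine ⟨?_, mem_cj_of hvP⟩
      have := mem_cj_of (g := y) (P.mul_mem hvP hbP)
      rwa [e3] at this
    by_cases hPP : cj y P = P
    · exact ⟨P, hP, hvP, mem_normalizer_of_cj hPP⟩
    · -- a line
      have hP' : Γ.Pt (cj y P) := f1.Pt_conj _ _ hP
      have hD : Γ.Ln (P ⊓ cj y P) := by
        rcases f5 P (cj y P) hP hP' (Ne.symm hPP) with h5 | ⟨z, -, h5⟩ | h5
        · exfalso
          have : v ∈ (⊥ : Subgroup G) := by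
            rw [← h5]; exact ⟨hvP, hyP.1⟩
          exact h.vne (Subgroup.mem_bot.1 this)
        · exfalso
          have h6 := (h5 v).1 ⟨hvP, hyP.1⟩
          have h7 := (h5 _).1 ⟨hbP, hyP.2⟩
          rcases h6 with h6 | h6
          · exact h.vne h6
          · rcases h7 with h7 | h7
            · exact hbne h7
            · exact hne (h6.trans h7.symm)
        · exact h5
      set D := P ⊓ cj y P with hDd
      have hvD : v ∈ D := ⟨hvP, hyP.1⟩
      have hbD : y * v * y⁻¹ ∈ D := ⟨hbP, hyP.2⟩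
      have hDy : cj y D = D := by
        symm
        apply f6.uniq D (cj y D) hD (f1.Ln_conj _ _ hD) v (y * v * y⁻¹) h.vne hbne hne hvD hbD
        · have := mem_cj_of (g := y) (D.mul_mem hvD hbD)
          rwa [e3] at this
        · exact mem_cj_of hvD
      -- the five points
      have h5 := f6.five D hD
      set S : Set (Subgroup G) := {P | Γ.Pt P ∧ D ≤ P} with hS
      have hmap : ∀ Q ∈ S, cj y Q ∈ S := by
        rintro Q ⟨hQ, hQ2⟩
        refine ⟨f1.Pt_conj _ _ hQ, ?_⟩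
        rw [← hDy]
        exact Subgroup.map_mono hQ2
      have hfin : Finite S := by
        apply Set.Finite.to_subtype
        apply Set.finite_of_ncard_ne_zero
        rw [h5]; norm_num
      let f : S → S := fun Q => ⟨cj y Q.1, hmap _ Q.2⟩
      have hf : (show Function.End S from f) ^ 3 ^ 1 = 1 := by
        funext Q
        apply Subtype.ext
        show cj y (cj y (cj y Q.1)) = Q.1
        rw [cj_cj', cj_cj', show y * y * y = 1 from h.y3, cj_one']
      have : Fintype S := Fintype.ofFinite S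
      have : Fact (Nat.Prime 3) := ⟨Nat.prime_three⟩
      classical
      have h6 := Equiv.Perm.card_fixedPoints_modEq hf
      have h7 : Fintype.card S = 5 := by
        rw [← Nat.card_eq_fintype_card, Nat.card_coe_set_eq, h5]
      rw [h7] at h6
      by_contra hno
      push Not at hno
      have h0 : Fintype.card (Function.fixedPoints f) = 0 := by
        rw [Fintype.card_eq_zero_iff]
        refine ⟨fun Q => ?_⟩
        have h8 : cj y Q.1.1 = Q.1.1 := congrArg Subtype.val Q.2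
        exact hno Q.1.1 Q.1.2.1 (Q.1.2.2 hvD) (mem_normalizer_of_cj h8)
      have h8 : 5 ≡ Fintype.card (Function.fixedPoints f) [MOD 3] := by convert h6
      rw [h0] at h8
      exact absurd h8 (by decide)
  · obtain ⟨P, hP, hvP, huniq, -⟩ := f4 v hB
    by_cases hbP : y * v * y⁻¹ ∈ P
    · left
      refine ⟨P, hP, hvP, mem_normalizer_of_cj ?_⟩
      have hB2 : Γ.B (y * v * y⁻¹) := f1.B_conj _ _ hB
      obtain ⟨P2, -, -, huniq2, -⟩ := f4 _ hB2
      rw [huniq2 P hP hbP]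
      rw [← huniq2 (cj y P) (f1.Pt_conj _ _ hP) (mem_cj_of hvP)]
      rw [huniq2 (cj y P) (f1.Pt_conj _ _ hP) (mem_cj_of hvP), ← huniq2 P hP hbP]
      exact (huniq2 (cj y P) (f1.Pt_conj _ _ hP) (mem_cj_of hvP)).trans (huniq2 P hP hbP).symm
    · right
      refine ⟨hB, fun Q hQ hvQ => ?_⟩
      rw [huniq Q hQ hvQ]; exact hbP

end Cfsg.Agent.H761.JM
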