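import Cfsg.Agent.H761.JM.Three
import Cfsg.Agent.H860.JM.Basic

/-!
# The A4-subgroups of `J4` with four-group in `2^11` and normalizing it
-/

set_option autoImplicit false

open Cfsg

namespace Cfsg.Agent.H761.JM

open Cfsg.Agent.J4.M24Hom Cfsg.Agent.J4.Nodes Cfsg.Agent.J4.Pres Cfsg.Agent.J4.Classes
open Cfsg.Agent.J4.Beta Cfsg.Agent.J4.ClassesData Cfsg.Agent.J4.Invol Cfsg.Agent.J4.ClassesAbs
open Cfsg.Agent.H858.VK Cfsg.Agent.H858.Data Cfsg.Agent.H858 Cfsg.Agent.Lib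

local notation "𝒢" => Cfsg.Spor.J4

/-- word of an element commuting with `k0` -/
def c00 : List ℕ :=
  [0, 2, 0, 2, 0, 1, 0, 2, 0, 1, 0, 1, 0, 1, 0, 2, 0, 1, 0, 1, 0, 1, 0, 1, 0, 1, 0, 2, 0, 1, 0,
  1]

/-- word of an element commuting with `k0` -/
def c01 : List ℕ :=
  [2, 0, 2, 0, 1, 0, 2, 0, 1, 0, 1, 0, 1, 0, 2, 0, 1, 0, 1, 0, 2, 0, 2, 0, 1, 0, 1, 0, 2, 0, 1,
  0, 1, 0, 1, 0, 2, 0, 1, 0, 1, 0, 2, 0, 2]

/-- orbit table -/
def T0 : List (ℕ × ℕ) := [
  (177, 0), (550, 1), (1740, 0), (347, 1), (1065, 0), (1109, 1), (1404, 0), (596, 1), (1832,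
  1), (1294, 0), (663, 1), (1457, 0), (295, 1), (1394, 0), (962, 1), (1726, 0), (408, 1), (602,
  1), (2021, 0), (1551, 1), (741, 0), (769, 0), (297, 1), (747, 0), (1176, 1), (1882, 0),
  (1471, 1), (665, 0), (1115, 1), (2027, 0), (1945, 1), (958, 1), (1174, 0), (1730, 1), (114,
  0), (195, 1), (205, 1), (1943, 1), (1876, 1), (883, 1), (1280, 0), (490, 0), (1485, 1),
  (1651, 0), (944, 0), (783, 1), (14, 0), (406, 1), (1258, 0), (1712, 1), (552, 0), (1063, 0),
  (1475, 1), (341, 0), (1537, 1), (484, 1), (1830, 0), (1252, 1), (124, 0), (191, 1), (893, 0)]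

/-- representatives -/
def R0 : List ℕ := [972, 1661]

/-- word of an element commuting with `k1` -/
def c10 : List ℕ :=
  [0, 1, 0, 2, 0, 2, 0, 1, 0, 1, 0, 2, 0, 1, 0, 2, 0, 2, 0, 2, 0, 2, 0, 1, 0, 2, 0, 1, 0, 2, 0,
  1, 0, 1, 0, 1, 0, 2, 0, 2, 0, 1, 0, 2, 0]

/-- word of an element commuting with `k1` -/
def c11 : List ℕ :=
  [2, 0, 1, 0]

/-- orbit table -/
def T1 : List (ℕ × ℕ) := [
  (619, 0), (600, 1), (1827, 0), (1886, 1), (1181, 0), (1415, 1), (1106, 0), (1403, 1), (209,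
  0), (1439, 1), (860, 0), (786, 1), (1157, 0), (284, 1), (1192, 0), (43, 1), (207, 0), (252,
  1), (705, 0), (305, 1), (987, 0), (332, 1), (1649, 0), (1409, 1), (1980, 1), (1026, 0), (834,
  1), (1458, 0), (86, 1), (649, 0), (915, 1), (1248, 0), (2036, 0), (825, 1), (1098, 0), (480,
  1), (778, 0), (1235, 1), (135, 1), (1757, 1), (1978, 0), (99, 1), (1808, 1), (1774, 0), (836,
  1), (430, 0), (1655, 1), (1696, 0), (30, 1), (1929, 1), (1360, 0), (413, 1), (621, 1), (1628,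
  0), (1206, 1), (389, 0), (1720, 1), (2015, 0), (1014, 1), (1272, 0), (1554, 1), (1452, 0),
  (1333, 1), (123, 1), (504, 0), (438, 1), (2028, 1), (1121, 0), (303, 1), (674, 0), (159, 0),
  (1733, 1), (965, 0), (1071, 1), (748, 1), (1954, 1), (801, 0), (1052, 1), (1489, 1), (907,
  1), (1352, 1), (1569, 1), (520, 1), (1782, 1), (629, 1), (338, 1), (1286, 1), (1985, 1),
  (411, 1), (549, 0), (258, 1), (24, 0), (1179, 1), (1548, 1), (129, 0), (934, 1), (1899, 0),
  (1532, 1), (101, 0), (917, 1), (2034, 0), (1768, 0), (700, 1), (1702, 0), (486, 1), (1602,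
  1), (1814, 0), (754, 1), (655, 1), (1599, 1), (780, 1), (1685, 1), (1237, 1), (1151, 1),
  (1381, 1), (534, 1), (1254, 0), (881, 1), (1755, 0), (1829, 1), (1100, 1), (1366, 1), (1325,
  0), (1683, 1), (1379, 1), (606, 1), (80, 1), (311, 0), (330, 1), (201, 0), (260, 1), (1593,
  1), (1310, 1), (928, 1), (989, 0), (180, 1), (1006, 0), (1604, 1), (1079, 1), (1145, 1),
  (1481, 1), (1530, 1), (1546, 1), (1460, 1), (887, 1), (547, 0), (250, 1), (756, 1), (45, 1),
  (172, 0), (657, 1), (1937, 0), (53, 1), (735, 1), (571, 1), (353, 1), (1909, 1), (72, 1),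
  (1800, 0), (952, 0), (1851, 0), (1675, 0), (469, 1), (1323, 0), (178, 1), (1073, 0), (711,
  0), (383, 0), (1000, 1), (1028, 0), (698, 1), (1901, 0), (1227, 0), (582, 1), (1506, 0),
  (1647, 1), (879, 0), (1862, 1), (831, 0), (424, 0), (1935, 1), (1880, 0), (1304, 1), (1487,
  0), (1991, 0), (1198, 0), (467, 1), (528, 0), (377, 0), (459, 1), (958, 0), (729, 1), (1806,
  0), (1641, 1), (1108, 0), (1155, 1), (1450, 1), (387, 0), (1856, 1), (1731, 0), (627, 1),
  (282, 1), (526, 0), (461, 1), (78, 0), (858, 1), (1508, 0), (1943, 1), (1229, 1), (125, 0),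
  (2009, 0), (1278, 0), (2026, 1), (1907, 0), (359, 1), (1853, 0), (573, 1), (1050, 0), (1331,
  0), (1008, 1), (1358, 0), (340, 0), (807, 1), (228, 1), (746, 0), (510, 1), (1626, 0), (1433,
  0), (153, 1), (788, 0), (432, 1), (1065, 0), (909, 1), (576, 0), (663, 1), (1200, 0), (963,
  0), (1495, 1), (873, 0), (1726, 1), (1677, 1), (297, 1), (1956, 0), (1280, 1), (1776, 1),
  (1127, 0), (215, 1), (1575, 1), (1556, 0), (1405, 0), (676, 0)]

/-- representatives -/
def R1 : List ℕ := [6, 226, 51, 170]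

/-- check of an orbit table -/
def orbOk (A C : List ℕ) : List ℕ → List (ℕ × ℕ) → Bool
  | _, [] => true
  | roots, (l, i) :: T => roots.contains (lin (bif Nat.beq i 0 then A else C) l) &&
      orbOk A C (l :: roots) T

theorem orb_sound {A C : List ℕ} (R : ℕ → ℕ → Prop) (htrans : ∀ a b c, R a b → R b c → R a c)
    (hA : ∀ l, R l (lin A l)) (hC : ∀ l, R l (lin C l)) (T : List (ℕ × ℕ)) :
    ∀ roots : List ℕ, orbOk A C roots T = true → ∀ l i, (l, i) ∈ T → ∃ r ∈ roots, R l r := by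
  induction T with
  | nil => intro _ _ l i h; exact absurd h List.not_mem_nil
  | cons p T ih =>
    obtain ⟨l0, i0⟩ := p
    intro roots h l i hl
    unfold orbOk at h
    rw [Bool.and_eq_true, List.contains_iff_mem] at h
    have key : ∃ r ∈ roots, R l0 r := by
      refine ⟨_, h.1, ?_⟩
      rcases hb : Nat.beq i0 0 with _ | _
      · exact hC l0
      · exact hA l0
    rcases List.mem_cons.1 hl with h1 | h1
    · rw [Prod.mk.injEq] at h1; obtain ⟨rfl, rfl⟩ := h1; exact key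
    · obtain ⟨r, hr, h2⟩ := ih _ h.2 l i h1
      rcases List.mem_cons.1 hr with rfl | hr
      · obtain ⟨r', hr', h3⟩ := key
        exact ⟨r', hr', htrans _ _ _ h2 h3⟩
      · exact ⟨r, hr, h2⟩

/-- the check for the element with matrix `K` -/
def chkP (K A C : List ℕ) (R : List ℕ) (T : List (ℕ × ℕ)) : Bool :=
  orbOk A C R T && (K.all fun a => Nat.blt a 2048) &&
  (List.range 2048).all fun l => Nat.beq l 0 || !(Nat.beq (l ^^^ lin K l ^^^ lin K (lin K l)) 0) ||
    (R ++ T.map fun p => p.1).contains l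

theorem chkP0 : chkP (mat w0) (mat c00) (mat c01) R0 T0 = true := by decide +kernel
theorem chkP1 : chkP (mat w1) (mat c10) (mat c11) R1 T1 = true := by decide +kernel

/-- the element `k0` of `M24` of type `1^6 3^6` -/
def k0 : M24 := wordG w0
/-- the element `k1` of `M24` of type `3^8` -/
def k1 : M24 := wordG w1

theorem comm_of_words {a b : List ℕ} (h : Nat.beq (wordP (a ++ b)) (wordP (b ++ a)) = true) :
    wordG a * wordG b = wordG b * wordG a := by
  rw [← M24Norm.wordG_append, ← M24Norm.wordG_append]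
  exact M24Norm.wordG_eq (Nat.eq_of_beq_eq_true h)

theorem comm00 : wordG c00 * k0 = k0 * wordG c00 := comm_of_words (by decide +kernel)
theorem comm01 : wordG c01 * k0 = k0 * wordG c01 := comm_of_words (by decide +kernel)
theorem comm10 : wordG c10 * k1 = k1 * wordG c10 := comm_of_words (by decide +kernel)
theorem comm11 : wordG c11 * k1 = k1 * wordG c11 := comm_of_words (by decide +kernel)

/-- the orbits of the centralizer of `wordG w` in `M24` -/
theorem orbit_aux {w a c R : List ℕ} {T : List (ℕ × ℕ)}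
    (ha : wordG a * wordG w = wordG w * wordG a) (hc : wordG c * wordG w = wordG w * wordG c)
    (h : chkP (mat w) (mat a) (mat c) R T = true) {l : ℕ} (hl : l < 2048) (hl0 : l ≠ 0)
    (hk : l ^^^ lin (mat w) l ^^^ lin (mat w) (lin (mat w) l) = 0) :
    ∃ r ∈ R, ∃ m : M24, m * wordG w = wordG w * m ∧ phi m * V l * (phi m)⁻¹ = V r := by
  unfold chkP at h
  rw [Bool.and_eq_true, Bool.and_eq_true] at h
  have h1 := List.all_eq_true.1 h.2 l (List.mem_range.2 hl)
  rw [Bool.or_eq_true, Bool.or_eq_true, hk] at h1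
  have h2 : (R ++ T.map fun p => p.1).contains l = true := by
    rcases h1 with (h1 | h1) | h1
    · exact absurd (Nat.eq_of_beq_eq_true h1) hl0
    · exact absurd h1 (by decide)
    · exact h1
  rw [List.contains_iff_mem, List.mem_append] at h2
  rcases h2 with h2 | h2
  · exact ⟨l, h2, 1, by rw [one_mul, mul_one], by rw [map_one, one_mul, inv_one, mul_one]⟩
  · obtain ⟨p, hp, rfl⟩ := List.mem_map.1 h2
    have hstep : ∀ b : List ℕ, wordG b * wordG w = wordG w * wordG b → ∀ l,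
        ∃ m : M24, m * wordG w = wordG w * m ∧ phi m * V l * (phi m)⁻¹ = V (lin (mat b) l) :=
      fun b hb l => ⟨wordG b, hb, conj_V (isMat_word b) l⟩
    exact orb_sound (fun l r => ∃ m : M24, m * wordG w = wordG w * m ∧
      phi m * V l * (phi m)⁻¹ = V r)
      (fun x y z => by
        rintro ⟨m, hm, h3⟩ ⟨m', hm', h4⟩
        refine ⟨m' * m, ?_, ?_⟩
        · rw [mul_assoc, hm, ← mul_assoc, hm', mul_assoc]
        · rw [map_mul, ← h4, ← h3]; group)
      (hstep a ha) (hstep c hc) T R h.1.1 p.1 p.2 hp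

/-- elements of order 3 of the normalizer of `2^11` -/
theorem order3_N {y : 𝒢} (hyN : y ∈ Subgroup.normalizer (EJ : Set 𝒢)) (h3 : y * y * y = 1)
    (h1 : y ≠ 1) : ∃ g ∈ Subgroup.normalizer (EJ : Set 𝒢), g * y * g⁻¹ = phi k0 ∨
      g * y * g⁻¹ = phi k1 := by
  rw [Cfsg.Agent.H860.JM.NEJ_eq] at hyN
  obtain ⟨e, he, m, rfl⟩ := mem_B.1 hyN
  have he2 : e * e = 1 := Cfsg.Agent.H860.JM.EJ_sq he
  have hcj : ∀ m : M24, phi m * e * (phi m)⁻¹ ∈ EJ := fun m =>
    (Subgroup.mem_normalizer_iff.1 (phi_norm ⟨m, rfl⟩) e).1 he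
  have e1 : e * phi m * (e * phi m) * (e * phi m) = e * (phi m * e * (phi m)⁻¹) *
      (phi (m * m) * e * (phi (m * m))⁻¹) * phi (m * m * m) := by
    simp only [map_mul]; group
  have h5 : phi (m * m * m) ∈ EJ := by
    have h4 : phi (m * m * m) = (e * (phi m * e * (phi m)⁻¹) *
      (phi (m * m) * e * (phi (m * m))⁻¹))⁻¹ := by
      rw [eq_inv_iff_mul_eq_one, ← Subgroup.mem_bot]
      have h6 := h3
      rw [e1] at h6
      rw [Subgroup.mem_bot]
      exact mul_eq_one_comm.1 h6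
    rw [h4]
    exact EJ.inv_mem (EJ.mul_mem (EJ.mul_mem he (hcj _)) (hcj _))
  have h6 : phi (m * m * m) = 1 := inf_eq_one _ h5 ⟨_, rfl⟩
  have h7 : m * m * m = 1 := phi_injective (by rw [h6, map_one])
  have hm1 : m ≠ 1 := by
    rintro rfl
    rw [map_one, mul_one] at h3 h1
    rw [he2, one_mul] at h3
    exact h1 h3
  rw [e1, h6, mul_one] at h3
  obtain ⟨g, hg⟩ := order3 m hm1 h7
  set f := phi m * e * (phi m)⁻¹ with hf
  set f2 := phi (m * m) * e * (phi (m * m))⁻¹ with hf2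
  have hfe : f * e = f2 := by
    have h8 : f2 * f2 = 1 := Cfsg.Agent.H860.JM.EJ_sq (hcj _)
    have h9 : f * e = e * f := Cfsg.Agent.H860.JM.EJ_comm (hcj _) he
    rw [h9, ← mul_one (e * f), ← h8, ← mul_assoc, h3, one_mul]
  have key : f * (e * phi m) * f⁻¹ = phi m := by
    have h10 : phi m * f⁻¹ = f2⁻¹ * phi m := by
      rw [hf, hf2, map_mul]
      simp only [mul_inv_rev, inv_inv, mul_assoc, inv_mul_cancel, mul_one]
    calc f * (e * phi m) * f⁻¹ = f * e * (phi m * f⁻¹) := by group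
      _ = phi m := by rw [h10, hfe, mul_inv_cancel_left]
  refine ⟨phi g * f, Subgroup.mul_mem _ (phi_norm ⟨g, rfl⟩)
    (Subgroup.le_normalizer (hcj _)), ?_⟩
  have h11 : phi g * f * (e * phi m) * (phi g * f)⁻¹ = phi (g * m * g⁻¹) := by
    calc phi g * f * (e * phi m) * (phi g * f)⁻¹
        = phi g * (f * (e * phi m) * f⁻¹) * (phi g)⁻¹ := by group
      _ = phi (g * m * g⁻¹) := by rw [key, map_mul, map_mul, map_inv]
  rw [h11]
  rcases hg with hg | hg
  · left; rw [hg]; rfl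
  · right; rw [hg]; rfl

theorem lt_of_all {K : List ℕ} (h : (K.all fun a => Nat.blt a 2048) = true) : ∀ a ∈ K, a < 2048 :=
  fun a ha => Nat.blt_eq.mp (List.all_eq_true.1 h a ha)

theorem caseP_aux {w a c R : List ℕ} {T : List (ℕ × ℕ)}
    (ha : wordG a * wordG w = wordG w * wordG a) (hc : wordG c * wordG w = wordG w * wordG c)
    (h : chkP (mat w) (mat a) (mat c) R T = true) {v : 𝒢} (hv : v ∈ EJ) (hv1 : v ≠ 1)
    (h3 : phi (wordG w) * phi (wordG w) * phi (wordG w) = 1)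
    (hvy : v * phi (wordG w) * (v * phi (wordG w)) * (v * phi (wordG w)) = 1) :
    ∃ g, g * phi (wordG w) * g⁻¹ = phi (wordG w) ∧ ∃ r ∈ R, g * v * g⁻¹ = V r := by
  obtain ⟨l, hl, rfl⟩ := mem_EJ.1 hv
  have hlt : ∀ a ∈ mat w, a < 2048 := by
    unfold chkP at h
    rw [Bool.and_eq_true, Bool.and_eq_true] at h
    exact lt_of_all h.1.2
  have e1 : V l * phi (wordG w) * (V l * phi (wordG w)) * (V l * phi (wordG w)) =
      V l * (phi (wordG w) * V l * (phi (wordG w))⁻¹) *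
      (phi (wordG w) * (phi (wordG w) * V l * (phi (wordG w))⁻¹) * (phi (wordG w))⁻¹) *
      (phi (wordG w) * phi (wordG w) * phi (wordG w)) := by group
  rw [e1, h3, mul_one, conj_V (isMat_word w), conj_V (isMat_word w), ← V_xor, ← V_xor] at hvy
  have hl0 : l ≠ 0 := by rintro rfl; exact hv1 V_zero
  have hk : l ^^^ lin (mat w) l ^^^ lin (mat w) (lin (mat w) l) = 0 := by
    refine V_inj ?_ (by norm_num) (by rw [hvy, V_zero])
    exact Nat.xor_lt_two_pow (n := 11) (Nat.xor_lt_two_pow (n := 11) hl (lin_lt hlt _))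
      (lin_lt hlt _)
  obtain ⟨r, hr, m, hm, h5⟩ := orbit_aux ha hc h hl hl0 hk
  refine ⟨phi m, ?_, r, hr, h5⟩
  rw [mul_inv_eq_iff_eq_mul, ← map_mul, ← map_mul, hm]

/-- **the A4-subgroups `⟨v, y⟩` with `v ∈ 2^11` and `y` in the normalizer of `2^11`** -/
theorem caseP0 {v y : 𝒢} (hv : v ∈ EJ) (hv1 : v ≠ 1)
    (hyN : y ∈ Subgroup.normalizer (EJ : Set 𝒢)) (h3 : y * y * y = 1) (h1 : y ≠ 1)
    (hvy : v * y * (v * y) * (v * y) = 1) :
    ∃ g, (g * y * g⁻¹ = phi k0 ∧ ∃ r ∈ R0, g * v * g⁻¹ = V r) ∨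
      (g * y * g⁻¹ = phi k1 ∧ ∃ r ∈ R1, g * v * g⁻¹ = V r) := by
  obtain ⟨g, hg, h⟩ := order3_N hyN h3 h1
  have hv' : g * v * g⁻¹ ∈ EJ := (Subgroup.mem_normalizer_iff.1 hg v).1 hv
  have hv1' : g * v * g⁻¹ ≠ 1 := fun e => hv1 (conj_eq_one_iff.1 e)
  have e3 : g * y * g⁻¹ * (g * y * g⁻¹) * (g * y * g⁻¹) = 1 := by
    have : g * y * g⁻¹ * (g * y * g⁻¹) * (g * y * g⁻¹) = g * (y * y * y) * g⁻¹ := by group
    rw [this, h3]; group
  have e4 : g * v * g⁻¹ * (g * y * g⁻¹) * (g * v * g⁻¹ * (g * y * g⁻¹)) *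
      (g * v * g⁻¹ * (g * y * g⁻¹)) = 1 := by
    have : g * v * g⁻¹ * (g * y * g⁻¹) * (g * v * g⁻¹ * (g * y * g⁻¹)) *
      (g * v * g⁻¹ * (g * y * g⁻¹)) = g * (v * y * (v * y) * (v * y)) * g⁻¹ := by group
    rw [this, hvy]; group
  rcases h with h | h
  · rw [h] at e3 e4
    obtain ⟨g', h5, r, hr, h6⟩ := caseP_aux comm00 comm01 chkP0 hv' hv1' e3 e4
    refine ⟨g' * g, Or.inl ⟨?_, r, hr, ?_⟩⟩
    · have : g' * g * y * (g' * g)⁻¹ = g' * (g * y * g⁻¹) * g'⁻¹ := by group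
      rw [this, h]; exact h5
    · rw [← h6]; group
  · rw [h] at e3 e4
    obtain ⟨g', h5, r, hr, h6⟩ := caseP_aux comm10 comm11 chkP1 hv' hv1' e3 e4
    refine ⟨g' * g, Or.inr ⟨?_, r, hr, ?_⟩⟩
    · have : g' * g * y * (g' * g)⁻¹ = g' * (g * y * g⁻¹) * g'⁻¹ := by group
      rw [this, h]; exact h5
    · rw [← h6]; group

end Cfsg.Agent.H761.JM
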